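import Mathlib.GroupTheory.SpecificGroups.Alternating.Centralizer
import Mathlib.GroupTheory.Perm.Cycle.Type
import Mathlib.Algebra.Group.Subgroup.Basic
import Mathlib.Tactic

/-!
`Aut(A_n) = S_n` for `n ≥ 4`, `n ≠ 6` (helper53).
-/

set_option autoImplicit false

namespace Cfsg.Agent.KnownSimple.AutAlt

open Equiv Equiv.Perm
local notation:10000 n "!" => Nat.factorial n

variable {n : ℕ}

/-- The 3-cycle `a ↦ b ↦ c ↦ a`. -/
def cyc (a b c : Fin n) : Perm (Fin n) := swap a b * swap b c

theorem cyc_a {a b c : Fin n} (hab : a ≠ b) (hac : a ≠ c) : cyc a b c a = b := by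
  simp [cyc, Perm.mul_apply, swap_apply_of_ne_of_ne hab hac]

theorem cyc_b {a b c : Fin n} (hbc : b ≠ c) (hac : a ≠ c) : cyc a b c b = c := by
  simp [cyc, Perm.mul_apply, swap_apply_of_ne_of_ne hac.symm hbc.symm]

theorem cyc_c {a b c : Fin n} : cyc a b c c = a := by
  simp [cyc, Perm.mul_apply]

theorem cyc_of {a b c x : Fin n} (ha : x ≠ a) (hb : x ≠ b) (hc : x ≠ c) : cyc a b c x = x := by
  simp [cyc, Perm.mul_apply, swap_apply_of_ne_of_ne hb hc, swap_apply_of_ne_of_ne ha hb]

theorem cyc_isThreeCycle {a b c : Fin n} (hab : a ≠ b) (hac : a ≠ c) (hbc : b ≠ c) :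
    IsThreeCycle (cyc a b c) := by
  rw [cyc, swap_comm a b]
  exact isThreeCycle_swap_mul_swap_same hab.symm hbc hac

theorem moved_of_three {x : Perm (Fin n)} (hx : IsThreeCycle x) {p a b c : Fin n}
    (hab : a ≠ b) (hac : a ≠ c) (hbc : b ≠ c) (ha : x a ≠ a) (hb : x b ≠ b) (hc : x c ≠ c)
    (hp : x p ≠ p) : p = a ∨ p = b ∨ p = c := by
  by_contra h
  rw [not_or, not_or] at h
  have hsub : ({p, a, b, c} : Finset (Fin n)) ⊆ x.support := by
    intro i hi
    simp only [Finset.mem_insert, Finset.mem_singleton] at hi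
    rw [mem_support]
    rcases hi with rfl | rfl | rfl | rfl <;> assumption
  have h4 : ({p, a, b, c} : Finset (Fin n)).card = 4 := by
    simp [hab, hac, hbc, h.1, h.2.1, h.2.2]
  have := Finset.card_le_card hsub
  rw [hx.card_support] at this
  omega

theorem eq_cyc {x : Perm (Fin n)} (hx : IsThreeCycle x) {a : Fin n} (ha : x a ≠ a) :
    x = cyc a (x a) (x (x a)) ∧ x (x (x a)) = a ∧ a ≠ x (x a) ∧ x a ≠ x (x a) := by
  have h3 : x ^ 3 = 1 := by rw [← hx.orderOf, pow_orderOf_eq_one]
  have hxxx : ∀ i, x (x (x i)) = i := fun i => by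
    have : (x ^ 3) i = i := by rw [h3]; rfl
    simpa [pow_succ, Perm.mul_apply] using this
  have hbc : x a ≠ x (x a) := fun h => ha (x.injective h).symm
  have hac : a ≠ x (x a) := fun h => ha (by
    have := congrArg x h
    rw [hxxx] at this
    exact this)
  refine ⟨Equiv.ext fun i => ?_, hxxx a, hac, hbc⟩
  by_cases h1 : i = a
  · subst h1; rw [cyc_a ha.symm hac]
  by_cases h2 : i = x a
  · subst h2; rw [cyc_b hbc hac]
  by_cases h3 : i = x (x a)
  · subst h3; rw [cyc_c, hxxx]
  rw [cyc_of h1 h2 h3]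
  by_contra hi
  have hc : x (x (x a)) ≠ x (x a) := by rw [hxxx]; exact hac
  rcases moved_of_three hx ha.symm hac hbc ha hbc.symm hc hi with h | h | h
  exacts [h1 h, h2 h, h3 h]

/-- Two 3-cycles with product of order 2 share a directed edge. -/
theorem exists_common_edge {x y : Perm (Fin n)} (hx : IsThreeCycle x) (hy : IsThreeCycle y)
    (hne : x * y ≠ 1) (h : x * y * (x * y) = 1) : ∃ p, x p = y p ∧ x p ≠ p := by
  have hxy : ∀ i, x (y (x (y i))) = i := fun i => by
    have : (x * y * (x * y)) i = i := by rw [h]; rfl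
    simpa [Perm.mul_apply] using this
  obtain ⟨a, hya, hxa⟩ : ∃ a, y a ≠ a ∧ x a ≠ a := by
    by_contra hc
    push Not at hc
    have hd : Perm.Disjoint x y := fun i => by
      by_cases hi : y i = i
      · exact Or.inr hi
      · exact Or.inl (hc i hi)
    have h2 : x * x = 1 := by
      obtain ⟨a, ha⟩ : ∃ a, x a ≠ a := by
        by_contra hx'
        push Not at hx'
        exact hx.ne_one (Equiv.ext hx')
      exfalso
      have e1 : y a = a := (hd a).resolve_left ha
      have hxx : x (x a) ≠ x a := fun h => ha (x.injective h)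
      have e2 : y (x a) = x a := (hd (x a)).resolve_left hxx
      have := hxy a
      rw [e1, e2] at this
      exact (eq_cyc hx ha).2.2.1 this.symm
    have : x ^ 3 = 1 := by rw [← hx.orderOf, pow_orderOf_eq_one]
    rw [pow_succ, sq, h2, one_mul] at this
    exact hx.ne_one this
  obtain ⟨hxeq, hxxx, hxac, hxbc⟩ := eq_cyc hx hxa
  obtain ⟨hyeq, hyyy, hyaf, hyef⟩ := eq_cyc hy hya
  set b := x a with hb
  set c := x b with hc
  set e := y a with he
  set f := y e with hf
  by_cases heb : e = b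
  · exact ⟨a, heb.symm, hxa⟩
  by_cases hec : e = c
  · -- `x e = a`
    have hxf : x f = f ∨ f = b := by
      by_cases h1 : x f = f
      · exact Or.inl h1
      · right
        rcases moved_of_three hx hxa.symm hxac hxbc hxa hxbc.symm
          (by rw [hxxx]; exact hxac) h1 with h2 | h2 | h2
        · exact absurd h2 hyaf.symm
        · exact h2
        · exact absurd (hec.trans h2.symm) hyef
    rcases hxf with h1 | h1
    · exfalso
      -- `(x y)` maps `f` to `b`, and `b` to `c`
      have hyb : y b = b := by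
        by_contra h2
        rcases moved_of_three hy hya.symm hyaf hyef hya hyef.symm
          (by rw [hyyy]; exact hyaf) h2 with h3 | h3 | h3
        · exact hxa h3
        · exact heb h3.symm
        · rw [← h3] at h1; exact hxbc h1.symm
      have h2 := hxy f
      rw [hyyy, ← hb, hyb, ← hc, ← hec] at h2
      exact hyef h2
    · exfalso
      apply hne
      rw [hxeq, hyeq, h1, hec]
      refine Equiv.ext fun i => ?_
      rw [Perm.mul_apply]
      by_cases i1 : i = a
      · subst i1; rw [cyc_a hxac hxa.symm, cyc_c]; rfl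
      by_cases i2 : i = b
      · subst i2; rw [cyc_c, cyc_a hxa.symm hxac]; rfl
      by_cases i3 : i = c
      · subst i3; rw [cyc_b hxbc.symm hxa.symm, cyc_b hxbc hxac]; rfl
      rw [cyc_of i1 i3 i2, cyc_of i1 i2 i3]; rfl
  · have hxe : x e = e := by
      by_contra h1
      rcases moved_of_three hx hxa.symm hxac hxbc hxa hxbc.symm
          (by rw [hxxx]; exact hxac) h1 with h2 | h2 | h2
      exacts [hya h2, heb h2, hec h2]
    have h2 := hxy a
    rw [← he, hxe, ← hf] at h2
    have hfc : f = c := x.injective (h2.trans hxxx.symm)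
    exact ⟨c, by rw [hxxx, ← hfc, hyyy], by rw [hxxx]; exact hxac⟩

/-- Three 3-cycles with pairwise products of order 2 share a directed edge. -/
theorem third_edge {x y z : Perm (Fin n)} (hx : IsThreeCycle x) (hy : IsThreeCycle y)
    (hz : IsThreeCycle z) {a : Fin n} (ha : x a = y a) (ha' : x a ≠ a) (hxy : x ≠ y)
    {p : Fin n} (hp : x p = z p) (hp' : x p ≠ p) {r : Fin n} (hr : y r = z r) (hr' : y r ≠ r) :
    z a = x a := by
  obtain ⟨hxeq, hxxx, hxac, hxbc⟩ := eq_cyc hx ha'
  obtain ⟨hyeq, hyyy, hyad, hybd⟩ := eq_cyc hy (ha ▸ ha')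
  set b := x a with hb
  set c := x b with hc
  set d := y (y a) with hd
  rw [← ha] at hyeq hybd
  have hyb : y b = d := by rw [hd, ← ha]
  have hcd : c ≠ d := fun h => hxy (by rw [hxeq, hyeq, h])
  by_cases hpa : p = a
  · rw [← hpa, ← hp, hb, hpa]
  by_cases hra : r = a
  · rw [← hra, ← hr, hb, hra, ← ha]
  exfalso
  have hzfix : ∀ i, z i ≠ i → z (z i) ≠ z i := fun i hi h => hi (z.injective h)
  have hpm : p = b ∨ p = c := by
    rcases moved_of_three hx ha'.symm hxac hxbc ha' hxbc.symm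
      (by rw [hxxx]; exact hxac) hp' with h | h | h
    exacts [absurd h hpa, Or.inl h, Or.inr h]
  have hrm : r = b ∨ r = d := by
    have hyb' : y b ≠ b := by rw [hyb]; exact hybd.symm
    have hyd' : y d ≠ d := by rw [hyyy]; exact hyad
    rcases moved_of_three hy ha'.symm hyad hybd (ha ▸ ha') hyb' hyd' hr' with h | h | h
    exacts [absurd h hra, Or.inl h, Or.inr h]
  rcases hpm with rfl | rfl <;> rcases hrm with rfl | rfl
  · exact hcd (by rw [hc, hp, ← hr, hyb])
  · -- `b ↦ c`, `d ↦ a`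
    have e1 : z b = c := by rw [← hp]
    have e2 : z d = a := by rw [← hr, hyyy]
    have m1 : z b ≠ b := by rw [e1]; exact hxbc.symm
    have m2 : z c ≠ c := by rw [← e1]; exact hzfix _ m1
    have m3 : z d ≠ d := by rw [e2]; exact hyad
    have m4 : z a ≠ a := by rw [← e2]; exact hzfix _ m3
    rcases moved_of_three hz hxbc hybd hcd m1 m2 m3 m4 with h | h | h
    exacts [ha' h.symm, hxac h, hyad h]
  · -- `c ↦ a`, `b ↦ d`
    have e1 : z c = a := by rw [← hp, hxxx]
    have e2 : z b = d := by rw [← hr, hyb]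
    have m1 : z c ≠ c := by rw [e1]; exact hxac
    have m4 : z a ≠ a := by rw [← e1]; exact hzfix _ m1
    have m3 : z b ≠ b := by rw [e2]; exact hybd.symm
    have m2 : z d ≠ d := by rw [← e2]; exact hzfix _ m3
    rcases moved_of_three hz hxbc hybd hcd m3 m1 m2 m4 with h | h | h
    exacts [ha' h.symm, hxac h, hyad h]
  · exact hcd (z.injective (by rw [← hp, ← hr, hxxx, hyyy]))

/-- Elements of order 3 of `A_n` with the same cycle type are conjugate, except when `n = 4`. -/
theorem isConj_of_replicate {x y : alternatingGroup (Fin n)} {k : ℕ}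
    (hx : (x : Perm (Fin n)).cycleType = Multiset.replicate k 3)
    (hy : (y : Perm (Fin n)).cycleType = Multiset.replicate k 3) (h : 2 ≤ k ∨ k = 1 ∧ 5 ≤ n) :
    IsConj x y := by
  obtain ⟨π, hπ⟩ := isConj_iff.1 (isConj_iff_cycleType_eq.2 (hx.trans hy.symm))
  rcases Int.units_eq_one_or (Perm.sign π) with hs | hs
  · exact isConj_iff.2 ⟨⟨π, hs⟩, Subtype.ext hπ⟩
  · have hnot : ¬ Subgroup.centralizer {(x : Perm (Fin n))} ≤ alternatingGroup (Fin n) := by
      rw [centralizer_le_alternating_iff, hx]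
      rintro ⟨-, h1, h2⟩
      simp only [Multiset.sum_replicate, smul_eq_mul, Fintype.card_fin] at h1
      have h3 := h2 3
      rw [Multiset.count_replicate_self] at h3
      omega
    obtain ⟨c, hc, hco⟩ := SetLike.not_le_iff_exists.1 hnot
    have hcs : Perm.sign c = -1 := (Int.units_eq_one_or _).resolve_left hco
    refine isConj_iff.2 ⟨⟨π * c, by rw [mem_alternatingGroup, map_mul, hs, hcs]; simp⟩,
      Subtype.ext ?_⟩
    have hc' : c * (x : Perm (Fin n)) = x * c := Subgroup.mem_centralizer_singleton_iff.1 hc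
    show π * c * (x : Perm (Fin n)) * (π * c)⁻¹ = y
    rw [← hπ, mul_assoc π c, hc']
    group

theorem factorial_ne {a k : ℕ} (hk : 2 ≤ k) (h : ¬ (k = 2 ∧ a = 0)) :
    a ! * (3 ^ (k - 1) * k !) < (a + (3 * k - 3))! := by
  obtain ⟨j, rfl⟩ : ∃ j, k = j + 2 := ⟨k - 2, by omega⟩
  have hbase : ∀ i : ℕ, 3 ^ (i + 2) * (i + 3)! < (3 * i + 6)! := by
    intro i
    induction i with
    | zero => decide
    | succ i ih =>
      rw [show 3 * (i + 1) + 6 = 3 * i + 6 + 1 + 1 + 1 by omega,
        Nat.factorial_succ (3 * i + 6 + 1 + 1), Nat.factorial_succ (3 * i + 6 + 1),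
        Nat.factorial_succ (3 * i + 6), pow_succ,
        show i + 1 + 3 = i + 3 + 1 by omega, Nat.factorial_succ (i + 3)]
      have h1 : 3 * (i + 3 + 1) ≤ (3 * i + 6 + 1 + 1 + 1) * (3 * i + 6 + 1 + 1) * (3 * i + 6 + 1) := by
        have : 1 ≤ (3 * i + 6 + 1 + 1) * (3 * i + 6 + 1) := Nat.one_le_iff_ne_zero.2 (by positivity)
        nlinarith
      calc 3 ^ (i + 2) * 3 * ((i + 3 + 1) * (i + 3)!)
          = (3 * (i + 3 + 1)) * (3 ^ (i + 2) * (i + 3)!) := by ring
        _ < (3 * (i + 3 + 1)) * (3 * i + 6)! := Nat.mul_lt_mul_of_pos_left ih (by omega)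
        _ ≤ _ := (Nat.mul_le_mul_right _ h1).trans_eq (by ring)
  have hfact : a ! * (3 * (j + 2) - 3)! ≤ (a + (3 * (j + 2) - 3))! :=
    Nat.le_of_dvd (Nat.factorial_pos _) (Nat.factorial_mul_factorial_dvd_factorial_add _ _)
  rcases j with _ | j
  · have ha : 1 ≤ a := Nat.one_le_iff_ne_zero.2 fun e => h ⟨rfl, e⟩
    show a ! * 6 < (a + 3)!
    rw [Nat.factorial_succ, Nat.factorial_succ, Nat.factorial_succ]
    have h1 : 6 < (a + 2 + 1) * ((a + 1 + 1) * (a + 1)) := by
      have := Nat.mul_le_mul (show 4 ≤ a + 2 + 1 by omega)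
        (Nat.mul_le_mul (show 3 ≤ a + 1 + 1 by omega) (show 2 ≤ a + 1 by omega))
      omega
    calc a ! * 6 < a ! * ((a + 2 + 1) * ((a + 1 + 1) * (a + 1))) :=
          Nat.mul_lt_mul_of_pos_left h1 (Nat.factorial_pos _)
      _ = _ := by ring
  · refine lt_of_lt_of_le (Nat.mul_lt_mul_of_pos_left ?_ (Nat.factorial_pos _)) hfact
    rw [show 3 * (j + 1 + 2) - 3 = 3 * j + 6 by omega, show j + 1 + 2 - 1 = j + 2 by omega,
      show j + 1 + 2 = j + 3 by omega]
    exact hbase j

/-- Automorphisms preserve 3-cycles. -/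
theorem map_isThreeCycle (hn : 4 ≤ n) (h6 : n ≠ 6) (φ : MulAut (alternatingGroup (Fin n)))
    {x : alternatingGroup (Fin n)} (hx : IsThreeCycle (x : Perm (Fin n))) :
    IsThreeCycle ((φ x : alternatingGroup (Fin n)) : Perm (Fin n)) := by
  classical
  have ho : orderOf ((φ x : alternatingGroup (Fin n)) : Perm (Fin n)) = 3 := by
    rw [Subgroup.orderOf_coe, MulEquiv.orderOf_eq, ← Subgroup.orderOf_coe, hx.orderOf]
  obtain ⟨j, hj⟩ := cycleType_prime_order (σ := ((φ x : alternatingGroup (Fin n)) : Perm (Fin n)))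
    (by rw [ho]; norm_num)
  rw [ho] at hj
  rcases Nat.eq_zero_or_pos j with rfl | hj0
  · rw [IsThreeCycle, hj]; rfl
  exfalso
  have hsum := sum_cycleType ((φ x : alternatingGroup (Fin n)) : Perm (Fin n))
  rw [hj, Multiset.sum_replicate, smul_eq_mul] at hsum
  have hle : (j + 1) * 3 ≤ n := by
    rw [hsum]; exact (Finset.card_le_univ _).trans_eq (Fintype.card_fin n)
  have hn5 : 5 ≤ n := by omega
  have hx' : (x : Perm (Fin n)).cycleType = Multiset.replicate 1 3 := hx
  -- the two classes have the same size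
  have hcard : ({g | (g : Perm (Fin n)).cycleType = Multiset.replicate 1 3} :
      Finset (alternatingGroup (Fin n))).card =
      ({g | (g : Perm (Fin n)).cycleType = Multiset.replicate (j + 1) 3} :
      Finset (alternatingGroup (Fin n))).card := by
    refine Finset.card_equiv φ.toEquiv fun g => ?_
    simp only [Finset.mem_filter, Finset.mem_univ, true_and, MulEquiv.toEquiv_eq_coe,
      EquivLike.coe_coe]
    constructor
    · intro hg
      obtain ⟨c, rfl⟩ := isConj_iff.1 (isConj_of_replicate hx' hg (Or.inr ⟨rfl, hn5⟩))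
      rw [map_mul, map_mul, map_inv, Subgroup.coe_mul, Subgroup.coe_mul, Subgroup.coe_inv,
        cycleType_conj, hj]
    · intro hg
      obtain ⟨c, hc⟩ := isConj_iff.1 (isConj_of_replicate hj hg (Or.inl (by omega)))
      have : g = φ.symm c * x * (φ.symm c)⁻¹ := φ.injective (by simp [← hc])
      rw [this, Subgroup.coe_mul, Subgroup.coe_mul, Subgroup.coe_inv, cycleType_conj, hx']
  have hformula : ∀ k : ℕ, 1 ≤ k → 3 * k ≤ n →
      ({g | (g : Perm (Fin n)).cycleType = Multiset.replicate k 3} :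
        Finset (alternatingGroup (Fin n))).card * ((n - 3 * k)! * 3 ^ k * k !) = n ! := by
    intro k hk hkn
    have h := AlternatingGroup.card_of_cycleType_mul_eq (α := Fin n) (Multiset.replicate k 3)
    rw [if_pos] at h
    · rwa [Fintype.card_fin, Multiset.sum_replicate, smul_eq_mul, mul_comm k 3,
        Multiset.prod_replicate, Multiset.toFinset_replicate, if_neg (by omega),
        Finset.prod_singleton, Multiset.count_replicate_self] at h
    · refine ⟨⟨by simp; omega, fun a ha => by rw [Multiset.eq_of_mem_replicate ha]; norm_num⟩, ?_⟩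
      rw [Multiset.sum_replicate, Multiset.card_replicate, smul_eq_mul]
      exact ⟨2 * k, by ring⟩
  have h1 := hformula 1 le_rfl (by omega)
  have h2 := hformula (j + 1) (by omega) (by omega)
  rw [← hcard, ← h1] at h2
  have hpos : 0 < ({g | (g : Perm (Fin n)).cycleType = Multiset.replicate 1 3} :
      Finset (alternatingGroup (Fin n))).card :=
    Finset.card_pos.2 ⟨x, Finset.mem_filter.2 ⟨Finset.mem_univ _, hx'⟩⟩
  have h3 := Nat.eq_of_mul_eq_mul_left hpos h2
  have h4 := factorial_ne (a := n - 3 * (j + 1)) (k := j + 1) (by omega) (by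
    rintro ⟨e1, e2⟩; omega)
  rw [Nat.add_sub_cancel, show n - 3 * (j + 1) + (3 * (j + 1) - 3) = n - 3 * 1 by omega] at h4
  rw [Nat.factorial_one, mul_one, pow_one, pow_succ] at h3
  have h5 : (n - 3 * (j + 1))! * (3 ^ j * (j + 1)!) = (n - 3 * 1)! := by
    refine Nat.eq_of_mul_eq_mul_right (show 0 < 3 by norm_num) ?_
    calc _ = (n - 3 * (j + 1))! * (3 ^ j * 3) * (j + 1)! := by ring
      _ = _ := h3
  omega

/-- The generators `(0 1 i)`. -/
theorem closure_cyc_eq (hn : 4 ≤ n) (i0 i1 : Fin n) (h01 : i0 ≠ i1) :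
    Subgroup.closure {g : Perm (Fin n) | ∃ i, i ≠ i0 ∧ i ≠ i1 ∧ g = cyc i0 i1 i} =
      alternatingGroup (Fin n) := by
  classical
  set H := Subgroup.closure {g : Perm (Fin n) | ∃ i, i ≠ i0 ∧ i ≠ i1 ∧ g = cyc i0 i1 i} with hH
  refine le_antisymm ((Subgroup.closure_le _).2 ?_) ?_
  · rintro g ⟨i, h0, h1, rfl⟩
    exact (cyc_isThreeCycle h01 h0.symm h1.symm).mem_alternatingGroup
  have g0 : ∀ i, i ≠ i0 → i ≠ i1 → cyc i0 i1 i ∈ H := fun i h0 h1 =>
    Subgroup.subset_closure ⟨i, h0, h1, rfl⟩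
  have conj : ∀ (g : Perm (Fin n)) (a b c : Fin n), g * cyc a b c * g⁻¹ = cyc (g a) (g b) (g c) := by
    intro g a b c
    simp only [cyc]
    rw [show g * (swap a b * swap b c) * g⁻¹ = (g * swap a b * g⁻¹) * (g * swap b c * g⁻¹) by
      group, Equiv.mul_swap_eq_swap_mul, Equiv.mul_swap_eq_swap_mul]
    simp [mul_assoc]
  have hconj : ∀ g ∈ H, ∀ a b c, cyc a b c ∈ H → cyc (g a) (g b) (g c) ∈ H := by
    intro g hg a b c h
    rw [← conj]
    exact mul_mem (mul_mem hg h) (inv_mem hg)
  -- `H` is transitive enough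
  have g1 : ∀ i j, i ≠ i0 → i ≠ i1 → j ≠ i0 → j ≠ i1 → i ≠ j →
      cyc i1 i j ∈ H ∧ cyc i i0 j ∈ H := by
    intro i j hi0 hi1 hj0 hj1 hij
    constructor
    · have := hconj _ (g0 i hi0 hi1) i0 i1 j (g0 j hj0 hj1)
      rwa [cyc_a h01 hi0.symm, cyc_b hi1.symm hi0.symm, cyc_of hj0 hj1 hij.symm] at this
    · have := hconj _ (mul_mem (g0 i hi0 hi1) (g0 i hi0 hi1)) i0 i1 j (g0 j hj0 hj1)
      simp only [Perm.mul_apply] at this
      rwa [cyc_a h01 hi0.symm, cyc_b hi1.symm hi0.symm, cyc_c,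
        cyc_of hj0 hj1 hij.symm, cyc_of hj0 hj1 hij.symm] at this
  rw [← Equiv.Perm.closure_three_cycles_eq_alternating, Subgroup.closure_le]
  intro g hg
  have hpow : ∀ a b c : Fin n, a ≠ b → a ≠ c → b ≠ c → cyc a b c ∈ H → cyc a c b ∈ H := by
    intro a b c hab hac hbc h
    have : cyc a c b = (cyc a b c)⁻¹ := by
      rw [eq_inv_iff_mul_eq_one]
      refine Equiv.ext fun i => ?_
      rw [Perm.mul_apply, Perm.one_apply]
      by_cases i1 : i = a
      · subst i1; rw [cyc_a hab hac, cyc_c]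
      by_cases i2 : i = b
      · subst i2; rw [cyc_b hbc hac, cyc_b hbc.symm hab]
      by_cases i3 : i = c
      · subst i3; rw [cyc_c, cyc_a hac hab]
      rw [cyc_of i1 i2 i3, cyc_of i1 i3 i2]
    rw [this]; exact inv_mem h
  have hrot : ∀ a b c : Fin n, a ≠ b → a ≠ c → b ≠ c → cyc a b c = cyc b c a := by
    intro a b c hab hac hbc
    refine Equiv.ext fun i => ?_
    by_cases i1 : i = a
    · subst i1; rw [cyc_a hab hac, cyc_c]
    by_cases i2 : i = b
    · subst i2; rw [cyc_b hbc hac, cyc_a hbc hab.symm]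
    by_cases i3 : i = c
    · subst i3; rw [cyc_c, cyc_b hac.symm hab.symm]
    rw [cyc_of i1 i2 i3, cyc_of i2 i3 i1]
  -- every 3-cycle through `i0` is in `H`
  have g2 : ∀ a b, a ≠ i0 → b ≠ i0 → a ≠ b → cyc i0 a b ∈ H := by
    intro a b ha hb hab
    by_cases ha1 : a = i1
    · subst ha1; exact g0 b hb hab.symm
    by_cases hb1 : b = i1
    · subst hb1; exact hpow _ _ _ h01 ha.symm (Ne.symm ha1) (g0 a ha ha1)
    have := (g1 b a hb hb1 ha ha1 hab.symm).2
    rwa [hrot _ _ _ hb hab.symm ha.symm] at this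
  obtain ⟨a, ha⟩ : ∃ a, g a ≠ a := by
    by_contra hc
    push Not at hc
    exact (hg : IsThreeCycle g).ne_one (Equiv.ext hc)
  obtain ⟨hgeq, hggg, hac, hbc⟩ := eq_cyc hg ha
  rw [hgeq]
  set b := g a
  set c := g b
  by_cases h1 : i0 = a
  · subst h1; exact g2 b c ha hac.symm hbc
  by_cases h2 : i0 = b
  · subst h2
    rw [hrot _ _ _ ha.symm hac hbc]
    exact g2 c a hbc.symm ha.symm hac.symm
  by_cases h3 : i0 = c
  · subst h3
    rw [hrot _ _ _ ha.symm hac hbc, hrot _ _ _ hbc ha hac.symm]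
    exact g2 a b hac hbc ha.symm
  -- conjugate `(i0 b c)` by `(i0 a b)`
  have := hconj _ (g2 a b (Ne.symm h1) (Ne.symm h2) ha.symm) i0 b c
    (g2 b c (Ne.symm h2) (Ne.symm h3) hbc)
  rw [cyc_a h1 h2, cyc_c, cyc_of (Ne.symm h3) hac.symm hbc.symm] at this
  -- `this : cyc a i0 c ∈ H`
  have h' := hconj _ (g2 b c (Ne.symm h2) (Ne.symm h3) hbc) a i0 c this
  rw [cyc_of (Ne.symm h1) ha.symm hac, cyc_a h2 h3, cyc_c] at h'
  -- `h' : cyc a b i0 ∈ H`
  have h'' := hconj _ (inv_mem this) a b i0 h'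
  have e1 : (cyc a i0 c)⁻¹ a = c := Perm.inv_eq_iff_eq.2 cyc_c.symm
  have e2 : (cyc a i0 c)⁻¹ b = b :=
    Perm.inv_eq_iff_eq.2 (cyc_of ha (Ne.symm h2) hbc).symm
  have e3 : (cyc a i0 c)⁻¹ i0 = a := Perm.inv_eq_iff_eq.2 (cyc_a (Ne.symm h1) hac).symm
  rw [e1, e2, e3] at h''
  rw [hrot _ _ _ ha.symm hac hbc, hrot _ _ _ hbc ha hac.symm]
  exact hpow _ _ _ hbc.symm hac.symm ha h''

theorem bijective_conjNormal (hn : 4 ≤ n) (h6 : n ≠ 6) :
    Function.Bijective (MulAut.conjNormal : Perm (Fin n) →* MulAut ↥(alternatingGroup (Fin n))) := by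
  classical
  constructor
  · rw [← MonoidHom.ker_eq_bot_iff, eq_bot_iff]
    intro σ hσ
    rw [Subgroup.mem_bot]
    refine Equiv.ext fun a => ?_
    rw [Perm.one_apply]
    by_contra ha
    obtain ⟨c, hc⟩ : ∃ c, c ≠ a ∧ c ≠ σ a := by
      obtain ⟨c, -, hc⟩ := Finset.exists_mem_notMem_of_card_lt_card
        (s := ({a, σ a} : Finset (Fin n))) (t := Finset.univ)
        (by rw [Finset.card_univ, Fintype.card_fin]; exact Finset.card_le_two.trans_lt (by omega))
      simp only [Finset.mem_insert, Finset.mem_singleton, not_or] at hc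
      exact ⟨c, hc⟩
    obtain ⟨d, hd⟩ : ∃ d, d ≠ a ∧ d ≠ σ a ∧ d ≠ c := by
      obtain ⟨d, -, hd⟩ := Finset.exists_mem_notMem_of_card_lt_card
        (s := ({a, σ a, c} : Finset (Fin n))) (t := Finset.univ)
        (by rw [Finset.card_univ, Fintype.card_fin]; exact Finset.card_le_three.trans_lt (by omega))
      simp only [Finset.mem_insert, Finset.mem_singleton, not_or] at hd
      exact ⟨d, hd⟩
    have h1 := congrArg Subtype.val (MulEquiv.congr_fun hσ ⟨cyc (σ a) c d,
      (cyc_isThreeCycle hc.2.symm hd.2.1.symm hd.2.2.symm).mem_alternatingGroup⟩)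
    rw [MulAut.conjNormal_apply, MulAut.one_apply] at h1
    -- the conjugate fixes `σ a`
    have h2 := Equiv.ext_iff.1 h1 (σ a)
    simp at h2
    rw [cyc_a hc.2.symm hd.2.1.symm, cyc_of (Ne.symm ha) (Ne.symm hc.1) (Ne.symm hd.1)] at h2
    exact hc.2 h2.symm
  · intro φ
    obtain ⟨i0, i1, h01⟩ : ∃ i0 i1 : Fin n, i0 ≠ i1 :=
      ⟨⟨0, by omega⟩, ⟨1, by omega⟩, by simp [Fin.ext_iff]⟩
    let c : {i : Fin n // i ≠ i0 ∧ i ≠ i1} → alternatingGroup (Fin n) := fun i =>
      ⟨cyc i0 i1 i, (cyc_isThreeCycle h01 i.2.1.symm i.2.2.symm).mem_alternatingGroup⟩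
    let Y : {i : Fin n // i ≠ i0 ∧ i ≠ i1} → Perm (Fin n) := fun i => (φ (c i) : alternatingGroup _)
    have hY : ∀ i, IsThreeCycle (Y i) := fun i =>
      map_isThreeCycle hn h6 φ (cyc_isThreeCycle h01 i.2.1.symm i.2.2.symm)
    have hYinj : Function.Injective Y := fun i j h => by
      have h' : (cyc i0 i1 i : Perm (Fin n)) i1 = cyc i0 i1 j i1 := by
        rw [show cyc i0 i1 (i : Fin n) = cyc i0 i1 j from
          congrArg Subtype.val (φ.injective (Subtype.ext h))]
      rw [cyc_b i.2.2.symm i.2.1.symm, cyc_b j.2.2.symm j.2.1.symm] at h'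
      exact Subtype.ext h'
    have hprod : ∀ i j, i ≠ j → ∃ p, Y i p = Y j p ∧ Y i p ≠ p := by
      intro i j hij
      have hij' : (i : Fin n) ≠ j := fun h => hij (Subtype.ext h)
      refine exists_common_edge (hY i) (hY j) ?_ ?_
      · intro h
        have h1 : φ (c i * c j) = 1 := by rw [map_mul]; exact Subtype.ext h
        have h2 : cyc i0 i1 (i : Fin n) * cyc i0 i1 j = 1 :=
          congrArg Subtype.val (φ.injective (h1.trans (map_one φ).symm))
        have h3 := Equiv.ext_iff.1 h2 i0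
        rw [Perm.mul_apply, cyc_a h01 j.2.1.symm, cyc_b i.2.2.symm i.2.1.symm] at h3
        exact i.2.1 h3
      · have h1 : c i * c j * (c i * c j) = 1 := by
          refine Subtype.ext (Equiv.ext fun x => ?_)
          show (cyc i0 i1 (i : Fin n) * cyc i0 i1 j * (cyc i0 i1 i * cyc i0 i1 j)) x = x
          simp only [Perm.mul_apply]
          by_cases x1 : x = i0
          · subst x1
            rw [cyc_a h01 j.2.1.symm, cyc_b i.2.2.symm i.2.1.symm,
              cyc_of i.2.1 i.2.2 hij', cyc_c]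
          by_cases x2 : x = i1
          · subst x2
            rw [cyc_b j.2.2.symm j.2.1.symm, cyc_of j.2.1 j.2.2 hij'.symm, cyc_c,
              cyc_a h01 i.2.1.symm]
          by_cases x3 : x = i
          · subst x3
            rw [cyc_of i.2.1 i.2.2 hij', cyc_c, cyc_a h01 j.2.1.symm, cyc_b i.2.2.symm i.2.1.symm]
          by_cases x4 : x = j
          · subst x4
            rw [cyc_c, cyc_a h01 i.2.1.symm, cyc_b j.2.2.symm j.2.1.symm,
              cyc_of j.2.1 j.2.2 hij'.symm]
          rw [cyc_of x1 x2 x4, cyc_of x1 x2 x3, cyc_of x1 x2 x4, cyc_of x1 x2 x3]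
        have h2 := congrArg (fun g => ((φ g : alternatingGroup (Fin n)) : Perm (Fin n))) h1
        simpa [Y, map_mul] using h2
    -- the common edge
    obtain ⟨u, v, huv⟩ : ∃ u v : {i : Fin n // i ≠ i0 ∧ i ≠ i1}, u ≠ v := by
      have hcard : 2 ≤ Fintype.card {i : Fin n // i ≠ i0 ∧ i ≠ i1} := by
        rw [Fintype.card_subtype]
        have : (Finset.univ.filter fun i : Fin n => i ≠ i0 ∧ i ≠ i1) = {i0, i1}ᶜ := by ext; simp
        rw [this, Finset.card_compl, Fintype.card_fin, Finset.card_pair h01]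
        omega
      exact Fintype.exists_pair_of_one_lt_card (by omega)
    obtain ⟨a, hab, ha⟩ := hprod u v huv
    have hedge : ∀ i, Y i a = Y u a := by
      intro i
      by_cases h1 : i = u
      · rw [h1]
      by_cases h2 : i = v
      · rw [h2, hab]
      obtain ⟨p, hp, hp'⟩ := hprod u i (Ne.symm h1)
      obtain ⟨r, hr, hr'⟩ := hprod v i (Ne.symm h2)
      exact third_edge (hY u) (hY v) (hY i) hab ha (fun h => huv (hYinj h)) hp hp' hr hr'
    set b := Y u a with hb
    have hs : ∀ i, Y i = cyc a b (Y i b) ∧ a ≠ Y i b ∧ b ≠ Y i b := by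
      intro i
      have hi : Y i a ≠ a := by rw [hedge]; exact ha
      obtain ⟨h1, -, h2, h3⟩ := eq_cyc (hY i) hi
      rw [hedge] at h1 h2 h3
      exact ⟨h1, h2, h3⟩
    let f : Fin n → Fin n := fun i =>
      if h : i ≠ i0 ∧ i ≠ i1 then Y ⟨i, h⟩ b else if i = i0 then a else b
    have f0 : f i0 = a := by simp [f]
    have f1 : f i1 = b := by simp [f, h01.symm]
    have fi : ∀ i : {i : Fin n // i ≠ i0 ∧ i ≠ i1}, f i = Y i b := fun i => dif_pos i.2
    have hfinj : Function.Injective f := by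
      intro i j h
      by_cases hi : i ≠ i0 ∧ i ≠ i1
      · rw [show f i = Y ⟨i, hi⟩ b from dif_pos hi] at h
        by_cases hj : j ≠ i0 ∧ j ≠ i1
        · rw [show f j = Y ⟨j, hj⟩ b from dif_pos hj] at h
          have := hYinj (show Y ⟨i, hi⟩ = Y ⟨j, hj⟩ by rw [(hs _).1, (hs ⟨j, hj⟩).1, h])
          exact congrArg Subtype.val this
        · exfalso
          rw [not_and_or, not_not, not_not] at hj
          rcases hj with rfl | rfl
          · exact (hs ⟨i, hi⟩).2.1 (by rw [h, f0])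
          · exact (hs ⟨i, hi⟩).2.2 (by rw [h, f1])
      · rw [not_and_or, not_not, not_not] at hi
        by_cases hj : j ≠ i0 ∧ j ≠ i1
        · exfalso
          rw [show f j = Y ⟨j, hj⟩ b from dif_pos hj] at h
          rcases hi with rfl | rfl
          · exact (hs ⟨j, hj⟩).2.1 (by rw [← h, f0])
          · exact (hs ⟨j, hj⟩).2.2 (by rw [← h, f1])
        · rw [not_and_or, not_not, not_not] at hj
          rcases hi with rfl | rfl <;> rcases hj with rfl | rfl
          · rfl
          · rw [f0, f1] at h; exact absurd h ha.symm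
          · rw [f0, f1] at h; exact absurd h ha
          · rfl
    let σ : Perm (Fin n) := Equiv.ofBijective f hfinj.bijective_of_finite
    refine ⟨σ, ?_⟩
    have hagree : ∀ i, MulAut.conjNormal σ (c i) = φ (c i) := by
      intro i
      refine Subtype.ext ?_
      rw [MulAut.conjNormal_apply]
      show σ * cyc i0 i1 (i : Fin n) * σ⁻¹ = Y i
      rw [(hs i).1, cyc, cyc, show σ * (swap i0 i1 * swap i1 (i : Fin n)) * σ⁻¹ =
          (σ * swap i0 i1 * σ⁻¹) * (σ * swap i1 (i : Fin n) * σ⁻¹) by group,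
        Equiv.mul_swap_eq_swap_mul, Equiv.mul_swap_eq_swap_mul, mul_inv_cancel_right,
        mul_inv_cancel_right]
      show swap (f i0) (f i1) * swap (f i1) (f i) = _
      rw [f0, f1, fi]
    refine MulEquiv.ext fun g => ?_
    have hgen : ∀ (x : Perm (Fin n)) (hx : x ∈ Subgroup.closure
        {g : Perm (Fin n) | ∃ i, i ≠ i0 ∧ i ≠ i1 ∧ g = cyc i0 i1 i}),
        MulAut.conjNormal σ (⟨x, (closure_cyc_eq hn i0 i1 h01).le hx⟩ : alternatingGroup (Fin n)) =
          φ ⟨x, (closure_cyc_eq hn i0 i1 h01).le hx⟩ := by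
      intro x hx
      induction hx using Subgroup.closure_induction with
      | mem x hx => obtain ⟨i, h0, h1, rfl⟩ := hx; exact hagree ⟨i, h0, h1⟩
      | one => exact (map_one _).trans (map_one φ).symm
      | mul x y hx hy ihx ihy =>
        have hxA := (closure_cyc_eq hn i0 i1 h01).le hx
        have hyA := (closure_cyc_eq hn i0 i1 h01).le hy
        rw [show (⟨x * y, (closure_cyc_eq hn i0 i1 h01).le (mul_mem hx hy)⟩ :
          alternatingGroup (Fin n)) = ⟨x, hxA⟩ * ⟨y, hyA⟩ from rfl, map_mul, map_mul, ihx, ihy]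
      | inv x hx ihx =>
        have hxA := (closure_cyc_eq hn i0 i1 h01).le hx
        rw [show (⟨x⁻¹, (closure_cyc_eq hn i0 i1 h01).le (inv_mem hx)⟩ :
          alternatingGroup (Fin n)) = ⟨x, hxA⟩⁻¹ from rfl, map_inv, map_inv, ihx]
    exact hgen g ((closure_cyc_eq hn i0 i1 h01).ge g.2)

end Cfsg.Agent.KnownSimple.AutAlt
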